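import Groth.Agent.S2849
import Groth.Agent.Lib.SmoothCurve.Stalk
import Groth.Agent.Lib.VarDim.Fibre
import Mathlib.AlgebraicGeometry.ZariskisMainTheorem
import Mathlib.AlgebraicGeometry.PullbackCarrier

/-!
Quasi-finite separated morphisms with finite fibres over a locally Noetherian base of dimension at
most one are affine.
-/

set_option autoImplicit false

universe u

open CategoryTheory CategoryTheory.Limits AlgebraicGeometry TopologicalSpace

namespace Groth.Agent.Lib.QFAffine

theorem isAffineHom_of_locally {X : Scheme.{u}} (U : X.Opens)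
    (h : ∀ x, ∃ W : X.Opens, x ∈ W ∧ IsAffineHom (X.homOfLE (inf_le_right : U ⊓ W ≤ W))) :
    IsAffineHom U.ι := by
  choose W hxW hW using h
  refine IsZariskiLocalAtTarget.of_iSup_eq_top W
    (Opens.ext (Set.eq_univ_of_forall fun x => Opens.mem_iSup.2 ⟨x, hxW x⟩)) fun x => ?_
  have sq : IsPullback (X.homOfLE (inf_le_left : U ⊓ W x ≤ U)) (X.homOfLE (inf_le_right : U ⊓ W x ≤ W x))
      U.ι (W x).ι := isPullback_opens_inf U (W x)
  have hIso := (isPullback_morphismRestrict U.ι (W x)).flip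
  rw [← MorphismProperty.cancel_left_of_respectsIso @IsAffineHom (sq.isoIsPullback _ _ hIso).hom,
    sq.isoIsPullback_hom_snd]
  exact hW x

theorem isAffineHom_ι_of_dim {X : Scheme.{u}} [IsLocallyNoetherian X]
    (h : ∀ x : X, ringKrullDim (X.presheaf.stalk x) ≤ 1) (U : X.Opens) : IsAffineHom U.ι :=
  isAffineHom_of_locally U fun x => Groth.Agent.S2849.result X U x (h x)

theorem stalk_dim_le {X : Scheme.{u}} (hX : topologicalKrullDim X ≤ 1) (x : X) :
    ringKrullDim (X.presheaf.stalk x) ≤ 1 := by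
  rw [ringKrullDim_stalk_eq_coheight]
  exact (SmoothCurve.Stalk.coheight_le_topologicalKrullDim x).trans hX

theorem isClosed_of_generization {X : Scheme.{u}} (hX : topologicalKrullDim X ≤ 1) {s' s : X} (h : s' ⤳ s)
    (hne : s' ≠ s) : IsClosed ({s} : Set X) := by
  have hd : ∀ t, s ⤳ t → t = s := by
    intro t ht
    by_contra hts
    have h₁ : Order.coheight s' + 1 ≤ Order.coheight s := Order.coheight_add_one_le
      (lt_iff_le_not_ge.2 ⟨Scheme.le_iff_specializes.2 h, fun hle => hne (h.antisymm (Scheme.le_iff_specializes.1 hle)).eq⟩)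
    have h₂ : Order.coheight s + 1 ≤ Order.coheight t := Order.coheight_add_one_le
      (lt_iff_le_not_ge.2 ⟨Scheme.le_iff_specializes.2 ht, fun hle => hts ((Scheme.le_iff_specializes.1 hle).antisymm ht).eq⟩)
    have h₃ : Order.coheight t ≤ 1 :=
      WithBot.coe_le_coe.1 ((SmoothCurve.Stalk.coheight_le_topologicalKrullDim t).trans hX)
    have h₄ : (2 : ℕ∞) ≤ Order.coheight t :=
      le_trans (by
        calc (2 : ℕ∞) = 0 + 1 + 1 := by norm_num
          _ ≤ Order.coheight s' + 1 + 1 := by gcongr; exact bot_le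
          _ ≤ Order.coheight s + 1 := by gcongr) h₂
    exact absurd (h₄.trans h₃) (by norm_num)
  refine isClosed_of_closure_subset fun t ht => ?_
  exact hd t (specializes_iff_mem_closure.2 ht)

/-- The quasi-finite separated morphisms with universally closed fibres are affine. -/
theorem isAffineHom {X Y S : Scheme.{u}} [IsLocallyNoetherian S] (hdim : topologicalKrullDim S ≤ 1)
    (f : X ⟶ Y) (gY : Y ⟶ S) [LocallyOfFiniteType gY] [LocallyOfFiniteType f] [LocallyQuasiFinite f]
    [IsSeparated f] [QuasiCompact f]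
    (hfin : ∀ s : S, UniversallyClosed (pullback.map (f ≫ gY) (S.fromSpecResidueField s) gY (S.fromSpecResidueField s)
      f (𝟙 _) (𝟙 _) (by simp) (by simp))) :
    IsAffineHom f := by
  let j := f.toNormalization
  let ν := f.fromNormalization
  let π : f.normalization ⟶ S := ν ≫ gY
  have hjν : j ≫ ν = f := f.toNormalization_fromNormalization
  suffices hj : IsAffineHom j by rw [← hjν]; infer_instance
  let U := j.opensRange
  -- fibrewise closedness of the range
  have hC : ∀ s : S, ∃ C : Set f.normalization, IsClosed C ∧ C ∩ π ⁻¹' {s} = (U : Set f.normalization) ∩ π ⁻¹' {s} := by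
    intro s
    let fs := S.fromSpecResidueField s
    let js : pullback (f ≫ gY) fs ⟶ pullback π fs := pullback.map _ _ _ _ j (𝟙 _) (𝟙 _)
      (by simp [π, ← hjν]) (by simp)
    let νs : pullback π fs ⟶ pullback gY fs := pullback.map _ _ _ _ ν (𝟙 _) (𝟙 _) (by simp [π]) (by simp)
    have hcomp : js ≫ νs = pullback.map (f ≫ gY) fs gY fs f (𝟙 _) (𝟙 _) (by simp) (by simp) := by
      apply pullback.hom_ext
      · show (pullback.map _ _ _ _ _ _ _ _ _ ≫ pullback.map _ _ _ _ _ _ _ _ _) ≫ _ = _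
        simp only [pullback.map, Category.assoc, pullback.lift_fst, pullback.lift_fst_assoc, hjν]
      · show (pullback.map _ _ _ _ _ _ _ _ _ ≫ pullback.map _ _ _ _ _ _ _ _ _) ≫ _ = _
        simp only [pullback.map, Category.assoc, pullback.lift_snd, Category.comp_id]
    have : UniversallyClosed (js ≫ νs) := hcomp ▸ hfin s
    have : IsSeparated νs := by
      have hsq : IsPullback νs (pullback.fst π fs) (pullback.fst gY fs) ν := by
        refine IsPullback.flip ?_
        refine ((IsPullback.paste_horiz_iff (IsPullback.of_hasPullback gY fs).flip (pullback.lift_fst _ _ _)).1 ?_).flip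
        rw [show νs ≫ pullback.snd gY fs = pullback.snd π fs from (pullback.lift_snd _ _ _).trans (Category.comp_id _)]
        exact (IsPullback.of_hasPullback π fs).flip
      exact MorphismProperty.of_isPullback hsq.flip inferInstance
    have : UniversallyClosed js := UniversallyClosed.of_comp_of_isSeparated js νs
    have hA : IsClosed (Set.range js) := js.isClosedMap.isClosed_range
    obtain ⟨C, hC, hCe⟩ := ((pullback.fst π fs).isEmbedding.isClosed_iff).1 hA
    refine ⟨C, hC, Set.ext fun x => ⟨?_, ?_⟩⟩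
    · rintro ⟨hxC, hxs⟩
      obtain ⟨p, rfl⟩ : x ∈ Set.range (pullback.fst π fs) := by
        rw [Scheme.Pullback.range_fst, Scheme.range_fromSpecResidueField]; exact hxs
      obtain ⟨q, rfl⟩ : p ∈ Set.range js := by rw [← hCe]; exact hxC
      refine ⟨?_, hxs⟩
      rw [← Scheme.Hom.comp_apply, pullback.lift_fst, Scheme.Hom.comp_apply]
      exact ⟨_, rfl⟩
    · rintro ⟨⟨w, rfl⟩, hxs⟩
      have hw : (f ≫ gY) w ∈ Set.range fs := by
        rw [Scheme.range_fromSpecResidueField]
        rw [← hjν, Category.assoc, Scheme.Hom.comp_apply]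
        exact hxs
      obtain ⟨q, hq⟩ : w ∈ Set.range (pullback.fst (f ≫ gY) fs) := by
        rw [Scheme.Pullback.range_fst]; exact hw
      refine ⟨?_, hxs⟩
      have : js q ∈ Set.range js := ⟨q, rfl⟩
      rw [← hCe] at this
      have e : pullback.fst π fs (js q) = j w := by
        rw [← Scheme.Hom.comp_apply, pullback.lift_fst, Scheme.Hom.comp_apply, hq]
      rw [← e]
      exact this
  choose C hC hCe using hC
  -- the boundary lies over non-generic points
  have hgen : ∀ z, z ∉ U → ∃ s', s' ⤳ π z ∧ s' ≠ π z := by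
    intro z hz
    by_contra hall
    push Not at hall
    obtain ⟨w, hw⟩ := VarDim.Fibre.exists_specializes_of_mem_closure_range j (y := z) (j.denseRange z)
    have hwz : π (j w) = π z := hall _ (hw.map π.continuous)
    have hwC : j w ∈ C (π z) ∩ π ⁻¹' {π z} := by rw [hCe]; exact ⟨⟨w, rfl⟩, hwz⟩
    have hzC : z ∈ C (π z) ∩ π ⁻¹' {π z} := ⟨hw.mem_closed (hC _) hwC.1, rfl⟩
    rw [hCe] at hzC
    exact hz hzC.1
  have hclosed : ∀ z, z ∉ U → IsClosed ({π z} : Set S) := fun z hz => by
    obtain ⟨s', h₁, h₂⟩ := hgen z hz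
    exact isClosed_of_generization hdim h₁ h₂
  have hUι : IsAffineHom U.ι := by
    refine isAffineHom_of_locally U fun z => ?_
    by_cases hz : z ∈ U
    · refine ⟨U, hz, ?_⟩
      have : IsIso (f.normalization.homOfLE (inf_le_right : U ⊓ U ≤ U)) := by
        have e : f.normalization.homOfLE (inf_le_right : U ⊓ U ≤ U) = (f.normalization.isoOfEq (inf_idem U)).hom := by
          rw [← cancel_mono U.ι]; simp
        rw [e]; infer_instance
      infer_instance
    let s := π z
    have hs : IsClosed ({s} : Set S) := hclosed z hz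
    obtain ⟨S₁, hS₁, hsS₁, -⟩ := exists_isAffineOpen_mem_and_subset (show s ∈ (⊤ : S.Opens) from trivial)
    obtain ⟨Y₁, hY₁, hzY₁, hY₁S⟩ := exists_isAffineOpen_mem_and_subset (show ν z ∈ gY ⁻¹ᵁ S₁ from hsS₁)
    have : IsLocallyNoetherian Y := LocallyOfFiniteType.isLocallyNoetherian gY
    have : IsAffine (Y₁ : Scheme.{u}) := hY₁
    have : IsNoetherianRing Γ(Y, Y₁) := IsLocallyNoetherian.component_noetherian ⟨Y₁, hY₁⟩
    have : NoetherianSpace (Y₁ : Scheme.{u}) := AlgebraicGeometry.noetherianSpace_of_isAffineOpen Y₁ hY₁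
    let B : Set (Y₁ : Scheme.{u}) := Y₁.ι ⁻¹' (ν '' ((U : Set f.normalization)ᶜ))
    have hB : IsClosed B := (ν.isClosedMap _ U.2.isClosed_compl).preimage Y₁.ι.continuous
    let T : Set S := (fun y => gY (Y₁.ι y)) '' B
    have hTcl : ∀ t ∈ T, IsClosed ({t} : Set S) := by
      rintro _ ⟨y, ⟨w, hw, hwe⟩, rfl⟩
      have h := hclosed w hw
      rwa [show π w = gY (Y₁.ι y) from congrArg gY hwe] at h
    have hTfin : T.Finite := by
      obtain ⟨F, hFfin, hFc, hFi, hFB⟩ := NoetherianSpace.exists_finite_set_isClosed_irreducible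
        (α := (Y₁ : Scheme.{u})) hB
      suffices ∀ Z ∈ F, ((fun y => gY (Y₁.ι y)) '' Z).Finite by
        show (_ '' B).Finite
        rw [hFB, Set.image_sUnion]
        exact (hFfin.image _).sUnion (by rintro _ ⟨Z, hZ, rfl⟩; exact this Z hZ)
      intro Z hZ
      have hZc := hFc Z hZ
      have hZi := hFi Z hZ
      obtain ⟨g, hg⟩ := QuasiSober.sober hZi hZc
      have hgB : g ∈ B := hFB ▸ Set.mem_sUnion.2 ⟨Z, hZ, hg.mem⟩
      refine (Set.finite_singleton (gY (Y₁.ι g))).subset ?_
      rintro _ ⟨y, hy, rfl⟩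
      have h₁ : gY (Y₁.ι g) ⤳ gY (Y₁.ι y) := ((hg.specializes hy).map Y₁.ι.continuous).map gY.continuous
      have h₂ := hTcl _ ⟨g, hgB, rfl⟩
      exact h₁.mem_closed h₂ rfl
    have hT' : IsClosed (T \ {s}) := by
      have : T \ {s} = ⋃ t ∈ T \ {s}, ({t} : Set S) := (Set.biUnion_of_singleton _).symm
      rw [this]
      exact (hTfin.sdiff).isClosed_biUnion fun t ht => hTcl t ht.1
    let S₀ : S.Opens := ⟨(T \ {s})ᶜ, hT'.isOpen_compl⟩
    have hF : IsClosed (C s ∩ π ⁻¹' {s}) := (hC s).inter (hs.preimage π.continuous)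
    let W : f.normalization.Opens := ν ⁻¹ᵁ Y₁ ⊓ π ⁻¹ᵁ S₀ ⊓ ⟨(C s ∩ π ⁻¹' {s})ᶜ, hF.isOpen_compl⟩
    have hzW : z ∈ W := ⟨⟨hzY₁, fun h => h.2 rfl⟩, fun h => hz (by rw [hCe] at h; exact h.1)⟩
    let O : S.Opens := ⟨({s} : Set S)ᶜ, hs.isOpen_compl⟩
    have hWU : π ⁻¹ᵁ O ⊓ W = U ⊓ W := by
      ext x
      refine ⟨fun ⟨hx, hxW⟩ => ⟨?_, hxW⟩, fun ⟨hx, hxW⟩ => ⟨fun hxs => ?_, hxW⟩⟩
      · by_contra hxU
        exact hxW.1.2 ⟨⟨⟨ν x, hxW.1.1⟩, ⟨x, hxU, rfl⟩, rfl⟩, hx⟩
      · refine hxW.2 ?_
        rw [hCe]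
        exact ⟨hx, hxs⟩
    refine ⟨W, hzW, ?_⟩
    have hO : IsAffineHom O.ι := isAffineHom_ι_of_dim (stalk_dim_le hdim) O
    have hπO : IsAffineHom (π ⁻¹ᵁ O).ι :=
      MorphismProperty.of_isPullback (isPullback_morphismRestrict π O) hO
    have hW : IsAffineHom (f.normalization.homOfLE (inf_le_right : π ⁻¹ᵁ O ⊓ W ≤ W)) :=
      MorphismProperty.of_isPullback (isPullback_opens_inf (π ⁻¹ᵁ O) W) hπO
    have e : f.normalization.homOfLE (inf_le_right : U ⊓ W ≤ W) =
        (f.normalization.isoOfEq hWU).inv ≫ f.normalization.homOfLE (inf_le_right : π ⁻¹ᵁ O ⊓ W ≤ W) := by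
      rw [← cancel_mono W.ι]; simp
    rw [e]
    infer_instance
  have e : j = (Scheme.Hom.isoOpensRange j).hom ≫ U.ι := (Scheme.Hom.isoOpensRange_hom_ι j).symm
  rw [e]
  infer_instance

end Groth.Agent.Lib.QFAffine
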