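import Groth.Agent.Lib.QFAffine.Basic
import Groth.Agent.Lib.GrpSch.BaseChange
import Groth.Agent.Lib.ActSep.GrpArt

/-!
Quasi-finite separated morphisms of schemes over a base of dimension at most one, fibrewise finite, are affine.
-/

set_option autoImplicit false

universe u

open CategoryTheory CategoryTheory.Limits AlgebraicGeometry
open scoped CategoryTheory.Obj

namespace Groth.Agent.Lib.QFAffine

theorem aux {X Y S T : Scheme.{u}} (f : X ⟶ Y) (gY : Y ⟶ S) (t : T ⟶ S) (gX : X ⟶ S) (h : f ≫ gY = gX)
    (w : pullback.fst gX t ≫ f ≫ gY = pullback.snd gX t ≫ t)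
    (hF : IsFinite (pullback.lift (pullback.fst gX t ≫ f) (pullback.snd gX t) (by simpa using w) :
      pullback gX t ⟶ pullback gY t)) :
    UniversallyClosed (pullback.map (f ≫ gY) t gY t f (𝟙 _) (𝟙 _) (by simp) (by simp)) := by
  subst h
  have := hF
  have e : pullback.map (f ≫ gY) t gY t f (𝟙 _) (𝟙 _) (by simp) (by simp) =
      pullback.lift (pullback.fst (f ≫ gY) t ≫ f) (pullback.snd (f ≫ gY) t) (by simpa using w) := by
    refine pullback.hom_ext ?_ ?_ <;> simp [pullback.map]
  rw [e]
  infer_instance

theorem isAffineHom_over {S : Scheme.{u}} [IsLocallyNoetherian S] (hdim : topologicalKrullDim S ≤ 1)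
    {X Y : Over S} [LocallyOfFiniteType X.hom] [LocallyOfFiniteType Y.hom] (u : X ⟶ Y)
    [QuasiCompact u.left] [LocallyQuasiFinite u.left] [IsSeparated u.left]
    (hfin : ∀ s : S, IsFinite ((Over.pullback (S.fromSpecResidueField s)).map u).left) :
    IsAffineHom u.left := by
  have : LocallyOfFiniteType (u.left ≫ Y.hom) := by rw [Over.w u]; infer_instance
  have : LocallyOfFiniteType u.left := locallyOfFiniteType_of_comp u.left Y.hom
  refine isAffineHom hdim u.left Y.hom fun s => ?_
  have := hfin s
  exact aux u.left Y.hom (S.fromSpecResidueField s) X.hom (Over.w u) (by rw [Over.w u]; exact pullback.condition) this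

theorem finite_of_field (K : Type u) [Field K] {G H : Over (Spec (CommRingCat.of K))} [GrpObj G] [GrpObj H]
    [LocallyOfFiniteType G.hom] [LocallyOfFiniteType H.hom] (u : G ⟶ H) [IsMonHom u] [QuasiCompact u.left]
    [LocallyQuasiFinite u.left] : IsFinite u.left :=
  ActSep.isFinite_of_locallyQuasiFinite u

theorem isAffineHom_groupHom {S : Scheme.{u}} [IsLocallyNoetherian S] (hdim : topologicalKrullDim S ≤ 1)
    {G H : Over S} [GrpObj G] [GrpObj H] [LocallyOfFiniteType G.hom] [LocallyOfFiniteType H.hom] (u : G ⟶ H)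
    [IsMonHom u] [QuasiCompact u.left] [LocallyQuasiFinite u.left] [IsSeparated u.left] : IsAffineHom u.left := by
  refine isAffineHom_over hdim u fun s => ?_
  set fs := S.fromSpecResidueField s
  have : LocallyOfFiniteType ((Over.pullback fs).obj G).hom :=
    GrpSch.bc_hom_of (P := @LocallyOfFiniteType) fs G ‹_›
  have : LocallyOfFiniteType ((Over.pullback fs).obj H).hom :=
    GrpSch.bc_hom_of (P := @LocallyOfFiniteType) fs H ‹_›
  have : QuasiCompact ((Over.pullback fs).map u).left := GrpSch.bc_map_left_of (P := @QuasiCompact) fs u ‹_›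
  have : LocallyQuasiFinite ((Over.pullback fs).map u).left :=
    GrpSch.bc_map_left_of (P := @LocallyQuasiFinite) fs u ‹_›
  exact finite_of_field (S.residueField s) ((Over.pullback fs).map u)

end Groth.Agent.Lib.QFAffine
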